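import Groth.Agent.Lib.Graded.PolyDepth
import Mathlib.Algebra.Polynomial.Eval.Defs
import Mathlib.RingTheory.Ideal.Operations

/-!
# The ideal of finitely many points of the projective plane has projective dimension one
-/

set_option autoImplicit false
set_option linter.style.haveILetI false
set_option linter.unusedSectionVars false

universe u

open MvPolynomial
open Groth.Agent.Lib Groth.Agent.Lib.Graded Groth.Agent.Lib.Graded.Basic

namespace Groth.Agent.H84.CAlgX.Points

variable {k : Type u} [Field k] {n : ℕ}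

/-- Restriction to the line through a point. -/
noncomputable def line (p : Fin n → k) : MvPolynomial (Fin n) k →ₐ[k] Polynomial k :=
  aeval fun i => Polynomial.C (p i) * Polynomial.X

theorem line_monomial (p : Fin n → k) (e : Fin n →₀ ℕ) (c : k) :
    line p (monomial e c) = Polynomial.monomial e.degree (eval p (monomial e c)) := by
  rw [line, aeval_monomial, eval_monomial, Finsupp.prod, Finsupp.prod]
  simp only [mul_pow, Finset.prod_mul_distrib, ← map_pow, ← map_prod, Finset.prod_pow_eq_pow_sum]
  rw [← Polynomial.C_mul_X_pow_eq_monomial, map_mul, Finsupp.degree_apply, Polynomial.algebraMap_eq]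
  ring

theorem coeff_line (p : Fin n → k) (f : MvPolynomial (Fin n) k) (j : ℕ) :
    (line p f).coeff j = eval p (homogeneousComponent j f) := by
  induction f using MvPolynomial.induction_on' with
  | monomial e c =>
    rw [line_monomial, Polynomial.coeff_monomial,
      homogeneousComponent_of_mem (isHomogeneous_monomial c (rfl : e.degree = e.degree))]
    by_cases h : e.degree = j
    · rw [if_pos h, if_pos h.symm]
    · rw [if_neg h, if_neg (Ne.symm h), map_zero]
  | add f g hf hg => rw [map_add, Polynomial.coeff_add, hf, hg, map_add, map_add]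

theorem line_hom (p : Fin n → k) {g : ℤ} {f : MvPolynomial (Fin n) k}
    (hf : f ∈ GrSyz.stdGr k (Fin n) g) (j : ℕ) (hj : (j : ℤ) ≠ g) : (line p f).coeff j = 0 := by
  rw [f.as_sum, map_sum, Polynomial.finsetSum_coeff]
  refine Finset.sum_eq_zero fun e he => ?_
  rw [line_monomial, Polynomial.coeff_monomial, if_neg]
  intro h
  exact hj (by rw [← Poly.degree_eq_of_mem hf he, h])

theorem coeff_line_proj (p : Fin n → k) (g : ℤ) (f : MvPolynomial (Fin n) k) (j : ℕ) :
    (line p (proj (GrSyz.stdGr k (Fin n)) g f)).coeff j =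
      if (j : ℤ) = g then (line p f).coeff j else 0 := by
  induction f using induction_hom (GrSyz.stdGr k (Fin n)) with
  | zero => simp
  | add a b ha hb => simp only [map_add, Polynomial.coeff_add, ha, hb]; split_ifs <;> simp
  | hom i x hx =>
    rcases eq_or_ne i g with rfl | hne
    · rw [proj_of_mem _ hx]
      split_ifs with h
      · rfl
      · exact line_hom p hx j h
    · rw [proj_of_mem_ne _ hx hne, map_zero, Polynomial.coeff_zero]
      split_ifs with h
      · exact (line_hom p hx j (h ▸ hne.symm)).symm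
      · rfl

theorem isHomogeneous (Z : Finset (Fin n → k)) (I : Ideal (MvPolynomial (Fin n) k))
    (hI : ∀ f, f ∈ I ↔ ∀ p ∈ Z, line p f = 0) : I.IsHomogeneous (GrSyz.stdGr k (Fin n)) := by
  intro g f hf
  refine (hI _).2 fun p hp => Polynomial.ext fun j => ?_
  show (line p (proj (GrSyz.stdGr k (Fin n)) g f)).coeff j = _
  rw [coeff_line_proj, (hI f).1 hf p hp, Polynomial.coeff_zero, ite_self]

theorem exists_mem_irrel_regular (Z : Finset (Fin n → k)) (hZ : ∀ p ∈ Z, p ≠ 0)
    (I : Ideal (MvPolynomial (Fin n) k)) (hI : ∀ f, f ∈ I ↔ ∀ p ∈ Z, line p f = 0) :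
    ∃ f ∈ (GrSyz.irrel (GrSyz.stdGr k (Fin n))).toIdeal,
      IsSMulRegular (MvPolynomial (Fin n) k ⧸ I) f := by
  classical
  obtain ⟨f, hf, hne⟩ : ∃ f ∈ (GrSyz.irrel (GrSyz.stdGr k (Fin n))).toIdeal,
      ∀ p ∈ Z, line p f ≠ 0 := by
    by_contra hcon
    push Not at hcon
    have hsub : ((GrSyz.irrel (GrSyz.stdGr k (Fin n))).toIdeal : Set (MvPolynomial (Fin n) k)) ⊆
        ⋃ p ∈ (Z : Set (Fin n → k)), (RingHom.ker (line p).toRingHom : Set (MvPolynomial (Fin n) k)) :=
      fun f hf => by
        obtain ⟨p, hp, h⟩ := hcon f hf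
        exact Set.mem_iUnion₂.2 ⟨p, hp, h⟩
    rcases Z.eq_empty_or_nonempty with rfl | ⟨p0, hp0⟩
    · obtain ⟨p, hp, -⟩ := hcon 0 (zero_mem _)
      exact absurd hp (Finset.notMem_empty p)
    · obtain ⟨p, hp, hle⟩ := (Ideal.subset_union_prime (s := Z)
        (f := fun p => RingHom.ker (line p).toRingHom) p0 p0
        (fun p _ _ _ => RingHom.ker_isPrime _)).1 hsub
      obtain ⟨i, hi⟩ : ∃ i, p i ≠ 0 := by
        by_contra! h
        exact hZ p hp (funext h)
      have h0 : line p (X i) = 0 := hle (Poly.X_mem_irrel i)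
      rw [line, aeval_X] at h0
      simp [hi] at h0
  refine ⟨f, hf, isSMulRegular_iff_right_eq_zero_of_smul.2 fun z hz => ?_⟩
  obtain ⟨z, rfl⟩ := Submodule.Quotient.mk_surjective I z
  rw [← Submodule.Quotient.mk_smul, Submodule.Quotient.mk_eq_zero, smul_eq_mul] at hz
  refine (Submodule.Quotient.mk_eq_zero I).2 ((hI z).2 fun p hp => ?_)
  have h := (hI _).1 hz p hp
  rw [map_mul] at h
  exact (mul_eq_zero.1 h).resolve_left (hne p hp)

end Groth.Agent.H84.CAlgX.Points
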